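import Cfsg.Agent.Tits.Opp
import Cfsg.Agent.Tits.Gate

/-!
# Sub-buildings and transitivity (S4884, polar frames, thin case; helper308)

* `sub` : the building on a set of chambers closed under the steps;
* `tr_of_opp` : transitivity on the opposite pairs implies transitivity on the pairs of equal distance.
-/

set_option autoImplicit false

namespace Cfsg.Agent.H308.PF

open Cfsg.Agent.Tits.Core Cfsg.Agent.Tits

variable {I : Type*} {M : CoxeterMatrix I} {W : Type*} [Group W] {cs : CoxeterSystem M W} {C : Type*}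

local prefix:100 "ℓ" => cs.length

/-- the building on a subset -/
def sub (Δ : Bldg cs C) (P : C → Prop)
    (hP : ∀ x y, P x → P y → ∀ i, ∃ z, P z ∧ Δ.δ y z = cs.simple i ∧ Δ.δ x z = Δ.δ x y * cs.simple i) :
    Bldg cs {c // P c} where
  δ x y := Δ.δ x y
  eq_one x y := by rw [Δ.eq_one, Subtype.ext_iff]
  symm x y := Δ.symm x y
  step x y z i h := Δ.step x y z i h
  step_lt x y z i h hl := Δ.step_lt x y z i h hl
  exists_step x y i := by
    obtain ⟨z, hz, h1, h2⟩ := hP x y x.2 y.2 i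
    exact ⟨⟨z, hz⟩, h1, h2⟩

theorem tr_of_opp [Finite W] (Δ : Bldg cs C) {G : Type*} [Group G] [MulAction G C]
    (hiso : ∀ (g : G) x y, Δ.δ (g • x) (g • y) = Δ.δ x y)
    (hopp : ∀ x z x' z', Δ.δ x z = w0 cs → Δ.δ x' z' = w0 cs → ∃ g : G, g • x = x' ∧ g • z = z') :
    ∀ x y x' y', Δ.δ x y = Δ.δ x' y' → ∃ g : G, g • x = x' ∧ g • y = y' := by
  intro x y x' y' h
  set w := Δ.δ x y with hw
  have hlen : ℓ (w * (w⁻¹ * w0 cs)) = ℓ w + ℓ (w⁻¹ * w0 cs) := by
    have h1 := Exchange.length_mul_w0 cs w⁻¹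
    rw [cs.length_inv] at h1
    rw [mul_inv_cancel_left]
    omega
  obtain ⟨z, hz1, hz2⟩ := Opp.exists_mul Δ x y (w⁻¹ * w0 cs)
  obtain ⟨z', hz1', hz2'⟩ := Opp.exists_mul Δ x' y' (w⁻¹ * w0 cs)
  rw [← hw, mul_inv_cancel_left] at hz2
  rw [← h, mul_inv_cancel_left] at hz2'
  obtain ⟨g, hg1, hg2⟩ := hopp x z x' z' hz2 hz2'
  refine ⟨g, hg1, ?_⟩
  refine Opp.eq_of_length Δ (x := x') (z := z') (w := w) (v := w⁻¹ * w0 cs) hlen ?_ h.symm ?_ hz1'
  · rw [← hg1, hiso]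
  · rw [← hg2, hiso, hz1]

end Cfsg.Agent.H308.PF
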